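/-
Groups with a subgroup of index two of large Fischer type.
-/
import Cfsg.Agent.Lib.Fi24Rec.Main
import Cfsg.Agent.Lib.ThreeTrans.Exist.Transport
import Cfsg.Agent.Lib.Fi23Rec.Main
import Cfsg.Agent.S2081

set_option autoImplicit false
set_option maxRecDepth 1000000
set_option linter.unusedSectionVars false
set_option linter.style.haveILetI false

namespace CfsgLib.Fi24Rec

open Cfsg CfsgLib.CosetEnum CfsgThreeTrans
open CfsgLib.CosetEnum.Fi24Table (Dset)

universe u v

local notation "P4" => presFi24.Grp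
local notation "σ4" => presFi24.σ
set_option quotPrecheck false in
local notation "P4'" => ↥(commutator presFi24.Grp)

theorem simple_prime : IsSimpleGroup P4' := Fi24Table.isFi24'.1

theorem prime_noncomm : ¬ ∀ a b : P4', a * b = b * a := by
  intro h
  haveI := simple_prime
  letI : CommGroup P4' := { (inferInstance : Group P4') with mul_comm := h }
  have hp := IsSimpleGroup.prime_card (α := P4')
  rw [Fi24Table.card_prime] at hp
  have := hp.eq_one_or_self_of_dvd 2 (by norm_num)
  norm_num at this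

theorem prime_center : Subgroup.center P4' = ⊥ := by
  haveI := simple_prime
  refine (IsSimpleGroup.eq_bot_or_eq_top_of_normal (Subgroup.center P4') inferInstance).resolve_right fun h => ?_
  exact prime_noncomm fun a b => (Subgroup.mem_center_iff.mp (h ▸ Subgroup.mem_top b : b ∈ Subgroup.center P4') a)

theorem card_aut_prime : Nat.card (MulAut P4') = 2 * Nat.card P4' := by
  haveI := Fi24Table.finite_grp
  haveI : Finite (MulAut P4') := Finite.of_injective (fun α => (α : P4' → P4')) DFunLike.coe_injective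
  have h := (Cfsg.Inn P4').card_eq_card_quotient_mul_card_subgroup
  have hinj : Function.Injective (MulAut.conj : P4' →* MulAut P4') := by
    refine (MonoidHom.ker_eq_bot_iff _).mp ((Subgroup.eq_bot_iff_forall _).mpr fun a ha => ?_)
    have hc : a ∈ Subgroup.center P4' := Subgroup.mem_center_iff.mpr fun b => by
      have := DFunLike.congr_fun (MonoidHom.mem_ker.mp ha) b
      simp only [MulAut.conj_apply, MulAut.one_apply] at this
      exact (mul_inv_eq_iff_eq_mul.mp this).symm
    rwa [prime_center, Subgroup.mem_bot] at hc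
  rw [show Nat.card (MulAut P4' ⧸ Cfsg.Inn P4') = 2 from Cfsg.Agent.S2081.result,
    ← Nat.card_congr (MonoidHom.ofInjective hinj).toEquiv] at h
  exact h

/-- A group over Fi24′ of index two with trivial centraliser is Fi24. -/
theorem exists_iso24 {X : Type u} [Group X] [Finite X] (G₀ : Subgroup X) (hidx : G₀.index = 2) (e : P4' ≃* ↥G₀)
    (hc : ∀ c : X, (∀ g ∈ G₀, Commute c g) → c = 1) : ∃ i : P4 ≃* X, ∀ a : P4', i (a : P4) = (e a : X) := by
  haveI := Fi24Table.finite_grp
  haveI : Finite (MulAut P4') := Finite.of_injective (fun α => (α : P4' → P4')) DFunLike.coe_injective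
  haveI : G₀.Normal := Subgroup.normal_of_index_eq_two hidx
  let Φ : X →* MulAut P4' :=
    { toFun := fun x => e.trans ((MulAut.conjNormal x).trans e.symm)
      map_one' := MulEquiv.ext fun a => by simp
      map_mul' := fun x y => MulEquiv.ext fun a => by simp }
  let Ψ : P4 →* MulAut P4' := MulAut.conjNormal
  have hΦ : Function.Injective Φ := by
    refine (MonoidHom.ker_eq_bot_iff _).mp ((Subgroup.eq_bot_iff_forall _).mpr fun x hx => hc x fun g hg => ?_)
    have h := DFunLike.congr_fun (MonoidHom.mem_ker.mp hx) (e.symm ⟨g, hg⟩)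
    change e.symm (MulAut.conjNormal x (e (e.symm ⟨g, hg⟩))) = e.symm ⟨g, hg⟩ at h
    rw [e.apply_symm_apply] at h
    have h' := congrArg Subtype.val (e.symm.injective h)
    rw [MulAut.conjNormal_apply] at h'
    exact mul_inv_eq_iff_eq_mul.mp h'
  have hΨ : Function.Injective Ψ := by
    refine (MonoidHom.ker_eq_bot_iff _).mp ((Fi24Table.normal_cases Ψ.ker).resolve_right fun h => prime_noncomm ?_)
    intro a b
    have h1 := congrArg Subtype.val (DFunLike.congr_fun (MonoidHom.mem_ker.mp (h a.2)) b)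
    change ((MulAut.conjNormal (a : P4) b : P4') : P4) = b at h1
    rw [MulAut.conjNormal_apply] at h1
    exact Subtype.ext (mul_inv_eq_iff_eq_mul.mp h1)
  have cX : Nat.card X = Nat.card (MulAut P4') := by
    rw [card_aut_prime, ← G₀.card_mul_index, hidx, ← Nat.card_congr e.toEquiv, mul_comm]
  have cP : Nat.card P4 = Nat.card (MulAut P4') := by
    rw [card_aut_prime, ← (commutator P4).card_mul_index, Fi24Table.index_commutator, mul_comm]
  let eX := MulEquiv.ofBijective Φ ((Nat.bijective_iff_injective_and_card _).mpr ⟨hΦ, cX⟩)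
  let eP := MulEquiv.ofBijective Ψ ((Nat.bijective_iff_injective_and_card _).mpr ⟨hΨ, cP⟩)
  refine ⟨eP.trans eX.symm, fun a => eX.injective ?_⟩
  show eX (eX.symm (eP a)) = eX (e a : X)
  rw [eX.apply_symm_apply]
  refine MulEquiv.ext fun b => e.injective ?_
  show e (MulAut.conjNormal (a : P4) b) = e (e.symm (MulAut.conjNormal (e a : X) (e b)))
  rw [e.apply_symm_apply]
  refine Subtype.ext ?_
  rw [MulAut.conjNormal_apply, show MulAut.conjNormal (a : P4) b = a * b * a⁻¹ from Subtype.ext (MulAut.conjNormal_apply _ _),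
    map_mul, map_mul, map_inv]
  simp

/-- **An automorphism group of large Fischer type is Fi24.** -/
theorem exists_aut {X : Type u} [Group X] [Finite X] (G₀ : Subgroup X) (hidx : G₀.index = 2) (z : ↥G₀)
    (Q : Subgroup (Subgroup.centralizer ({z} : Set ↥G₀))) [Q.Normal] (hF : Cfsg.IsOfLargeFischerTypeAt z Q)
    (hFX : (Cfsg.generalizedFittingSubgroup ↥(Subgroup.centralizer ({(z : X)} : Set X))).map (Subgroup.subtype _) =
      ((Q.map (Subgroup.subtype _)).map G₀.subtype)) :
    ∃ i : P4 ≃* X, (commutator P4).map i.toMonoidHom = G₀ ∧ ∃ T U S : P4, [σ4 0, T, U, S].Nodup ∧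
      (∀ a ∈ [σ4 0, T, U, S], a ∈ Dset) ∧ (∀ a ∈ [σ4 0, T, U, S], ∀ b ∈ [σ4 0, T, U, S], Commute a b) ∧
      i (σ4 0 * T * (U * S)) = (z : X) := by
  obtain ⟨M, hMz⟩ := exists_setup hF
  obtain ⟨⟨-, -, -, hQc, -⟩, N, Mm, hNn, hMn, -, hNM, hN, ⟨K, iK, iKf, hK, ⟨eq⟩⟩, hM⟩ := hF
  haveI := hNn
  have hcz : Nat.card ↥(Subgroup.centralizer ({M.z} : Set ↥G₀)) = 2 * (3265920 * (3 * 2 ^ 13)) := by
    rw [hMz]
    exact card_local N Mm hNM hK eq hM (hN.trans (by rw [hQc]))
  obtain ⟨e, T, U, S, hnd, hmem, hcom, hP, he⟩ := M.exists_iso hcz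
  have hc : ∀ c : X, (∀ g ∈ G₀, Commute c g) → c = 1 := by
    intro c hc
    set Cx := Subgroup.centralizer ({(z : X)} : Set X)
    have hcC : c ∈ Cx := Subgroup.mem_centralizer_singleton_iff.mpr (hc _ z.2).eq
    have hcF : (⟨c, hcC⟩ : ↥Cx) ∈ Cfsg.generalizedFittingSubgroup ↥Cx := by
      refine CfsgLib.centralizer_generalizedFitting_le (Subgroup.mem_centralizer_iff.mpr fun a ha => ?_)
      obtain ⟨y, ⟨b, -, rfl⟩, hy⟩ := hFX ▸ Subgroup.mem_map_of_mem Cx.subtype ha
      refine Subtype.ext ?_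
      have := (hc _ b.1.2).eq
      rw [show ((b : ↥G₀) : X) = (a : X) from hy] at this
      exact this.symm
    obtain ⟨y, -, hy⟩ := hFX ▸ Subgroup.mem_map_of_mem Cx.subtype hcF
    have hy' : (y : X) = c := hy
    have hyc : y ∈ Subgroup.center ↥G₀ := Subgroup.mem_center_iff.mpr fun g =>
      Subtype.ext (by rw [Subgroup.coe_mul, Subgroup.coe_mul, hy']; exact (hc _ g.2).eq.symm)
    rw [M.center_bot, Subgroup.mem_bot] at hyc
    rw [← hy', hyc]; rfl
  obtain ⟨i, hi⟩ := exists_iso24 G₀ hidx e hc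
  refine ⟨i, ?_, T, U, S, hnd, hmem, hcom, ?_⟩
  · ext x
    constructor
    · rintro ⟨a, ha, rfl⟩
      show i a ∈ G₀
      rw [show i a = (e ⟨a, ha⟩ : X) from hi ⟨a, ha⟩]
      exact (e _).2
    · intro hx
      exact ⟨(e.symm ⟨x, hx⟩ : P4'), (e.symm ⟨x, hx⟩).2, (hi _).trans (by rw [e.apply_symm_apply])⟩
  · rw [← hMz]
    exact (hi ⟨_, hP⟩).trans (congrArg Subtype.val he)

/-- Type M(24) passes along isomorphisms. -/
theorem type24_map {G : Type u} {G' : Type v} [Group G] [Group G'] (f : G ≃* G') {D : Set G} {D' : Set G'}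
    (hD : f '' D = D') (h : IsOfTypeM24 G D) : IsOfTypeM24 G' D' := by
  obtain ⟨hZ, d, hd, c, hc, hn, h23, N, hNn, ⟨e1⟩, ⟨e2⟩⟩ := h
  obtain ⟨a, ha⟩ := Exist.closure_center_equiv f (Exist.image_Ds f hD d)
  obtain ⟨b⟩ := Exist.pair_equiv f hD d c
  haveI := hNn
  have hNn' : (N.comap b.toMonoidHom).Normal := inferInstance
  refine ⟨Exist.center_bot f hZ, f d, hD ▸ ⟨d, hd, rfl⟩, f c, hD ▸ ⟨c, hc, rfl⟩,
    fun q => hn (by simpa using q.map f.symm), Exist.type23 a ha h23, N.comap b.toMonoidHom, hNn', ⟨?_⟩, ⟨?_⟩⟩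
  · exact ((b.subgroupMap _).trans ((MulEquiv.subgroupCongr (Subgroup.map_comap_eq_self_of_surjective b.surjective N)).trans e1))
  · refine (QuotientGroup.congr (N.comap b.toMonoidHom) N b ?_).trans e2
    exact Subgroup.map_comap_eq_self_of_surjective b.surjective N

theorem group_type24 {X : Type u} [Group X] (i : P4 ≃* X) :
    ∃ E : Set X, Cfsg.IsThreeTranspositionClass E ∧ Cfsg.IsOfTypeM24 X E :=
  ⟨i '' Dset, CfsgFi23Rec.class_map i Fi24Table.threeTransposition,
    type24_map i rfl CfsgThreeTrans.Exist.type24_pres⟩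

end CfsgLib.Fi24Rec
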