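/-
The local shape of the presented Fi23 at a transposition, carried along an isomorphism.
-/
import Cfsg.Agent.Lib.Fi24Rec.Twist
import Cfsg.Agent.Lib.Fi23Rec.Main
import Cfsg.Agent.Lib.Components
import Cfsg.Agent.Lib.CosetEnum.U62Thompson.Exists
import Cfsg.Agent.Lib.ThreeTrans.M24.Unique.Fi23Part

set_option autoImplicit false
set_option maxRecDepth 1000000
set_option linter.unusedSectionVars false
set_option linter.style.haveILetI false

namespace CfsgLib.Fi24Rec

open Cfsg CfsgLib.CosetEnum CfsgThreeTrans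
open CfsgFi23Rec (H23 zH gH mem_H zH_center D23 TH TH_move)
open CfsgThreeTrans.M24.Unique (tz)
open Fi23Class (emb)

universe u

theorem mem_zpowers_two {G : Type*} [Group G] {d x : G} (hd : d * d = 1) :
    x ∈ Subgroup.zpowers d ↔ x = 1 ∨ x = d := by
  constructor
  · rintro ⟨k, rfl⟩
    rcases Int.even_or_odd' k with ⟨m, rfl | rfl⟩
    · exact Or.inl (show d ^ (2 * m) = 1 by rw [zpow_mul, zpow_two, hd, one_zpow])
    · exact Or.inr (show d ^ (2 * m + 1) = d by rw [zpow_add_one, zpow_mul, zpow_two, hd, one_zpow, one_mul])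
  · rintro (rfl | rfl)
    exacts [one_mem _, Subgroup.mem_zpowers _]

theorem order_two {G : Type*} [Group G] {d : G} (hd : d * d = 1) (h1 : d ≠ 1) : orderOf d = 2 := by
  haveI : Fact (Nat.Prime 2) := ⟨Nat.prime_two⟩
  exact orderOf_eq_prime (by rw [pow_two]; exact hd) h1

/-- An isomorphism between centralisers. -/
noncomputable def centEquiv {A B : Type*} [Group A] [Group B] (f : A ≃* B) {a : A} {H : Subgroup A}
    (hH : ∀ g, g ∈ H ↔ Commute a g) : ↥H ≃* ↥(Subgroup.centralizer ({f a} : Set B)) where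
  toFun g := ⟨f g, Subgroup.mem_centralizer_singleton_iff.mpr (((hH g).mp g.2).map f).eq.symm⟩
  invFun g := ⟨f.symm g, (hH _).mpr (by
    have h : Commute (f a) (g : B) := (Subgroup.mem_centralizer_singleton_iff.mp g.2).symm
    have := h.map f.symm
    simpa using this)⟩
  left_inv g := Subtype.ext (f.symm_apply_apply _)
  right_inv g := Subtype.ext (f.apply_symm_apply _)
  map_mul' g h := Subtype.ext (map_mul f _ _)

theorem centEquiv_val {A B : Type*} [Group A] [Group B] (f : A ≃* B) {a : A} {H : Subgroup A}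
    (hH : ∀ g, g ∈ H ↔ Commute a g) (g : ↥H) : (centEquiv f hH g : B) = f g := rfl

/-- The transposition centraliser of Fi22 is quasisimple over PSU(6, 2). -/
theorem stab_shape : IsQuasisimple ↥U62Mult.stabH ∧ ∃ (K : Type) (_ : Field K) (_ : Fintype K), Fintype.card K = 4 ∧
    ∃ p : ↥U62Mult.stabH →* PSU 6 K 2, Function.Surjective p ∧ ∀ h, p h = 1 ↔ h = 1 ∨ h = U62Mult.aT := by
  classical
  letI : Fintype (GaloisField 2 2) := Fintype.ofFinite _
  have hK : Fintype.card (GaloisField 2 2) = 4 := by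
    rw [← Nat.card_eq_fintype_card, GaloisField.card 2 2 (by norm_num)]; norm_num
  obtain ⟨p, hp, hk, hperf, -, -⟩ := U62Thompson.base_map hK
  haveI : IsSimpleGroup (PSU 6 (GaloisField 2 2) 2) :=
    UnitarySimple.simple (F := GaloisField 2 2) (q := 2) (by rw [hK]; norm_num) (by norm_num) (by norm_num)
  obtain ⟨-, ⟨e⟩, -⟩ := Fi22Class.double_cover_field (F := GaloisField 2 2) (by rw [hK]; norm_num)
  exact ⟨⟨⟨hperf⟩, e.isSimpleGroup⟩, GaloisField 2 2, inferInstance, inferInstance, hK, p, hp, hk⟩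

/-- **The shape of Fi23 at a transposition.** -/
theorem shape23 {Y : Type u} [Group Y] (φ : presFi23.Grp ≃* Y) (t : Y) (ht : φ tz = t) :
    orderOf t = 2 ∧ IsQuasisimple ↥(Subgroup.centralizer ({t} : Set Y)) ∧
    (∃ (_ : ((Subgroup.zpowers t).subgroupOf (Subgroup.centralizer ({t} : Set Y))).Normal),
      (∃ E : Set (↥(Subgroup.centralizer ({t} : Set Y)) ⧸ (Subgroup.zpowers t).subgroupOf (Subgroup.centralizer ({t} : Set Y))),
        IsThreeTranspositionClass E ∧ IsOfTypeM22 _ E) ∧
      ∃ d' : ↥(Subgroup.centralizer ({t} : Set Y)) ⧸ (Subgroup.zpowers t).subgroupOf (Subgroup.centralizer ({t} : Set Y)),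
        orderOf d' = 2 ∧ IsQuasisimple ↥(Subgroup.centralizer ({d'} : Set _)) ∧
        (∃ (K : Type) (_ : Field K) (_ : Fintype K), Fintype.card K = 4 ∧
          ∃ _ : ((Subgroup.zpowers d').subgroupOf (Subgroup.centralizer ({d'} : Set _))).Normal,
            Nonempty (↥(Subgroup.centralizer ({d'} : Set _)) ⧸
              (Subgroup.zpowers d').subgroupOf (Subgroup.centralizer ({d'} : Set _)) ≃* PSU 6 K 2)) ∧
        ∃ g, g * d' * g⁻¹ ∈ Subgroup.centralizer ({d'} : Set _) ∧ g * d' * g⁻¹ ≠ d') ∧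
    (∃ g : Y, g * t * g⁻¹ ∈ Subgroup.centralizer ({t} : Set Y) ∧ g * t * g⁻¹ ≠ t) ∧
    IsThreeTranspositionClass (conjugatesOf t) ∧ IsOfTypeM23 Y (conjugatesOf t) := by
  classical
  subst ht
  set t := φ tz with ht
  set C := Subgroup.centralizer ({t} : Set Y)
  have htsq : t * t = 1 := by rw [ht, ← map_mul, Fi23Aut.t_sq, map_one]
  have ht1 : t ≠ 1 := fun e => Fi23Aut.t_ne (φ.map_eq_one_iff.mp e)
  obtain ⟨hperf, π, hπ, hgen, hker⟩ := facts
  let σC : ↥H23 ≃* ↥C := centEquiv φ (a := tz) fun g => mem_H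
  let q : ↥C →* presFi22.Grp := π.comp σC.symm.toMonoidHom
  have hq : Function.Surjective q := hπ.1.comp σC.symm.surjective
  have hqker : q.ker = (Subgroup.zpowers t).subgroupOf C := by
    ext c
    obtain ⟨g, rfl⟩ := σC.surjective c
    rw [MonoidHom.mem_ker, Subgroup.mem_subgroupOf, mem_zpowers_two htsq, centEquiv_val,
      show q (σC g) = π g by simp [q], hker g, ht, φ.map_eq_one_iff, φ.injective.eq_iff]
    exact ⟨fun h => h.imp (fun e => by rw [e]; rfl) (fun e => by rw [e]; rfl),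
      fun h => h.imp (fun e => Subtype.ext e) (fun e => Subtype.ext e)⟩
  haveI hN : ((Subgroup.zpowers t).subgroupOf C).Normal := hqker ▸ q.normal_ker
  let e : ↥C ⧸ (Subgroup.zpowers t).subgroupOf C ≃* presFi22.Grp :=
    (QuotientGroup.quotientMulEquivOfEq hqker.symm).trans (QuotientGroup.quotientKerEquivOfSurjective q hq)
  have hqs : IsQuasisimple ↥C := by
    haveI := Cfsg.Agent.S1696.result.1
    refine CfsgLib.isQuasisimple_of_equiv σC ⟨⟨hperf⟩, ?_⟩
    have hz : Subgroup.center ↥H23 = π.ker := by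
      ext g
      rw [MonoidHom.mem_ker, hker g, Subgroup.mem_center_iff]
      exact ⟨fun h => center_cases g fun x => (h x).symm, by
        rintro (rfl | rfl) x
        exacts [by rw [mul_one, one_mul], (zH_center x).eq.symm]⟩
    exact ((QuotientGroup.quotientMulEquivOfEq hz).trans
      (QuotientGroup.quotientKerEquivOfSurjective π hπ.1)).isSimpleGroup
  -- the involution of the quotient
  set d' := e.symm (presFi22.σ 0) with hd'
  have hta : presFi22.σ 0 = Fi22Class.ta := by simp [Fi22Class.ta]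
  have mem0 : ∀ g, g ∈ U62Mult.stabH ↔ Commute (presFi22.σ 0) g := fun g => by
    rw [hta]
    show g ∈ Fi3510.cert.sub ↔ _
    rw [← Fi22Class.facts.1, Subgroup.mem_centralizer_singleton_iff]
    exact ⟨fun h => h.symm, fun h => h.symm⟩
  let σD := centEquiv e.symm (a := presFi22.σ 0) mem0
  obtain ⟨hsq, K, iK, iKf, hK, p, hp, hpk⟩ := stab_shape
  have hd'sq : d' * d' = 1 := by rw [hd', ← map_mul, presFi22.σ_sq, map_one]
  have hd'1 : d' ≠ 1 := fun h => by
    have h' := e.symm.map_eq_one_iff.mp h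
    have := (Fi22Class.facts).2.1.1.1 _ (mem_conjugatesOf_self (a := Fi22Class.ta))
    rw [← hta, h', orderOf_one] at this
    norm_num at this
  let pD := p.comp σD.symm.toMonoidHom
  have hpD : Function.Surjective pD := hp.comp σD.symm.surjective
  have hpker : pD.ker = (Subgroup.zpowers d').subgroupOf (Subgroup.centralizer ({d'} : Set _)) := by
    ext c
    obtain ⟨g, rfl⟩ := σD.surjective c
    rw [MonoidHom.mem_ker, Subgroup.mem_subgroupOf, mem_zpowers_two hd'sq, centEquiv_val,
      show pD (σD g) = p g by simp [pD], hpk g, hd', e.symm.map_eq_one_iff, e.symm.injective.eq_iff]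
    exact ⟨fun h => h.imp (fun k => by rw [k]; rfl) (fun k => by rw [k]; rfl),
      fun h => h.imp (fun k => Subtype.ext k) (fun k => Subtype.ext k)⟩
  haveI hND : ((Subgroup.zpowers d').subgroupOf (Subgroup.centralizer ({d'} : Set _))).Normal :=
    hpker ▸ pD.normal_ker
  -- two commuting transpositions
  have mTH : ∀ x < 9, gH x ∈ TH := fun x hx => by
    obtain ⟨h1, h2, h3⟩ := CfsgThreeTrans.M24.Unique.near_gen hx
    exact ⟨h1, h2, h3.symm⟩
  have h06 : Commute (presFi23.σ 0) (presFi23.σ 6) :=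
    (show Commute (presFi23.σ 6) (presFi23.σ 0) from by
      obtain ⟨h, -⟩ := Fi23Class.facts.2.1.1
      exact (CfsgThreeTrans.M24.Unique.commute_iff_table (x := 6) (y := 0) (by norm_num) (by norm_num)).mpr
        (Nat.eq_of_beq_eq_true (by decide +kernel))).symm
  have hwd : ∃ g, g * d' * g⁻¹ ∈ Subgroup.centralizer ({d'} : Set _) ∧ g * d' * g⁻¹ ≠ d' := by
    obtain ⟨h, hh⟩ := TH_move (mTH 0 (by norm_num)) (mTH 6 (by norm_num))
    have hc : Commute (gH 0) (gH 6) := Subtype.ext h06.eq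
    have hg : e.symm (π h) * d' * (e.symm (π h))⁻¹ = e.symm (presFi22.σ 6) := by
      rw [hd', ← hgen 0 (by norm_num), ← hgen 6 (by norm_num), ← hh]
      simp only [map_mul, map_inv]
    refine ⟨e.symm (π h), ?_, ?_⟩ <;> rw [hg]
    · refine Subgroup.mem_centralizer_singleton_iff.mpr ?_
      rw [hd', ← map_mul, ← map_mul, ← hgen 0 (by norm_num), ← hgen 6 (by norm_num), ← map_mul, ← map_mul, hc.eq]
    · intro k
      have k' : π ((gH 0)⁻¹ * gH 6) = 1 := by
        rw [map_mul, map_inv, hgen 0 (by norm_num), hgen 6 (by norm_num), e.symm.injective (k.trans hd'),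
          inv_mul_cancel]
      rcases (hker _).mp k' with k'' | k''
      · have e6 : presFi23.σ 0 = presFi23.σ 6 := congrArg Subtype.val (inv_mul_eq_one.mp k'')
        exact absurd (CfsgThreeTrans.M24.Unique.σ_inj (by norm_num) (by norm_num) e6) (by norm_num)
      · have e6 : presFi23.σ 6 = presFi23.σ 0 * tz := congrArg Subtype.val (inv_mul_eq_iff_eq_mul.mp k'')
        haveI := CfsgThreeTrans.Exist.finite23
        obtain ⟨B23⟩ := CfsgFi23Rec.base23
        have n0 := CfsgThreeTrans.M24.Unique.near_gen (x := 0) (by norm_num)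
        exact CfsgThreeTrans.M23.ne_two CfsgFi23Rec.group23 CfsgFi23Rec.prim23 CfsgFi23Rec.type23 B23
          (CfsgFi23Rec.gen_mem (x := 6) (by norm_num)) (CfsgFi23Rec.gen_mem (x := 0) (by norm_num)) CfsgFi23Rec.mem_self
          n0.2.1 n0.2.2 e6
  refine ⟨order_two htsq ht1, hqs, ⟨hN, CfsgFi23Rec.exists_type e, d', order_two hd'sq hd'1,
    CfsgLib.isQuasisimple_of_equiv σD hsq, ⟨K, iK, iKf, hK, hND, ⟨?_⟩⟩, hwd⟩, ?_, CfsgFi23Rec.class_type φ rfl⟩
  · exact (QuotientGroup.quotientMulEquivOfEq hpker.symm).trans (QuotientGroup.quotientKerEquivOfSurjective pD hpD)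
  · obtain ⟨g, hg⟩ := cls_exists_conj CfsgFi23Rec.class23 CfsgFi23Rec.mem_self
      (CfsgFi23Rec.gen_mem (x := 0) (by norm_num))
    have e0 : φ g * t * (φ g)⁻¹ = φ (presFi23.σ 0) := by rw [ht, ← map_inv, ← map_mul, ← map_mul, hg]
    refine ⟨φ g, ?_, ?_⟩ <;> rw [e0]
    · exact Subgroup.mem_centralizer_singleton_iff.mpr ((mTH 0 (by norm_num)).2.2.symm.map φ).eq
    · exact fun k => (mTH 0 (by norm_num)).2.1 (φ.injective k)

end CfsgLib.Fi24Rec
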