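/-
The outer involutions of the automorphism group of large Fischer type commuting with the central involution.
-/
import Cfsg.Agent.Lib.Fi24Rec.Aut
import Cfsg.Agent.Lib.Fi24Rec.Shape23

set_option autoImplicit false
set_option maxRecDepth 1000000
set_option linter.unusedSectionVars false
set_option linter.style.haveILetI false

namespace CfsgLib.Fi24Rec

open Cfsg CfsgLib.CosetEnum CfsgThreeTrans
open CfsgLib.CosetEnum.Fi24Table (Dset)

universe u

local notation "P4" => presFi24.Grp
local notation "σ4" => presFi24.σ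

/-- The even part of the centraliser of a transposition is Fi23. -/
theorem even_centraliser :
    Nonempty (presFi23.Grp ≃* ↥(commutator P4 ⊓ Subgroup.centralizer ({σ4 0} : Set P4))) := by
  haveI := Fi24Table.finite_grp
  set H := Fi24Table.cert.sub
  set K1 := commutator P4 ⊓ Subgroup.centralizer ({σ4 0} : Set P4) with hK1
  have hH : Subgroup.centralizer ({σ4 0} : Set P4) = H := Fi24Table.centralizer_eq
  have hle : K1 ≤ H := fun g hg => hH ▸ hg.2
  set K' := K1.subgroupOf H
  have hDK : commutator ↥H ≤ K' := by
    intro g hg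
    refine Subgroup.mem_subgroupOf.mpr ⟨?_, ?_⟩
    · have := Subgroup.mem_map_of_mem H.subtype hg
      rw [commutator_def, Subgroup.map_commutator] at this
      exact Subgroup.commutator_mono le_top le_top this
    · rw [hH]; exact g.2
  have hout : σ4 0 ∉ commutator P4 := fun h => by
    have := MonoidHom.mem_ker.mp (Fi24Table.commutator_le_sgn_ker h)
    rw [Fi24Table.sgn_σ0] at this
    exact absurd this (by decide)
  have h0 : σ4 0 ∈ H := hH ▸ Subgroup.mem_centralizer_singleton_iff.mpr rfl
  have hne : K'.index ≠ 1 := fun h => hout (by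
    have : (⟨σ4 0, h0⟩ : ↥H) ∈ K' := Subgroup.index_eq_one.mp h ▸ Subgroup.mem_top _
    exact (Subgroup.mem_subgroupOf.mp this).1)
  have hidx : (commutator ↥H).index = 2 := by
    have h := (commutator ↥H).card_mul_index
    rw [Fi24Table.card_derived, Fi24Table.card_sub] at h
    omega
  have hK' : K'.index = 2 := by
    have h := Subgroup.index_dvd_of_le hDK
    rw [hidx] at h
    exact ((Nat.dvd_prime Nat.prime_two).mp h).resolve_left hne
  have heq : commutator ↥H = K' := by
    refine Subgroup.eq_of_le_of_card_ge hDK (le_of_eq ?_)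
    have h1 := (commutator ↥H).card_mul_index
    have h2 := K'.card_mul_index
    rw [hidx] at h1
    rw [hK'] at h2
    omega
  exact ⟨Fi24Table.derivedEquiv.symm.trans ((MulEquiv.subgroupCongr heq).trans (Subgroup.subgroupOfEquivOfLe hle))⟩

/-- **The outer involution.** -/
theorem exists_outer {X : Type u} [Group X] [Finite X] (i : P4 ≃* X) (G₀ : Subgroup X)
    (hG : (commutator P4).map i.toMonoidHom = G₀) :
    orderOf (i (σ4 0)) = 2 ∧ i (σ4 0) ∉ G₀ ∧
      Nonempty (presFi23.Grp ≃* ↥(G₀ ⊓ Subgroup.centralizer ({i (σ4 0)} : Set X))) := by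
  have hout : σ4 0 ∉ commutator P4 := fun h => by
    have := MonoidHom.mem_ker.mp (Fi24Table.commutator_le_sgn_ker h)
    rw [Fi24Table.sgn_σ0] at this
    exact absurd this (by decide)
  obtain ⟨φ⟩ := even_centraliser
  refine ⟨order_two (by rw [← map_mul, presFi24.σ_sq, map_one])
    (fun h => hout (by rw [i.map_eq_one_iff.mp h]; exact one_mem _)), fun h => hout ?_, ⟨φ.trans ?_⟩⟩
  · rw [← hG] at h
    exact (Subgroup.mem_map_iff_mem i.injective).mp h
  · refine (i.subgroupMap _).trans (MulEquiv.subgroupCongr ?_)
    ext x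
    obtain ⟨g, rfl⟩ := i.surjective x
    show i.toMonoidHom g ∈ Subgroup.map i.toMonoidHom _ ↔ _
    rw [Subgroup.mem_map_iff_mem i.injective, Subgroup.mem_inf, Subgroup.mem_inf, ← hG,
      show (i g : X) = i.toMonoidHom g from rfl, Subgroup.mem_map_iff_mem i.injective,
      Subgroup.mem_centralizer_singleton_iff, Subgroup.mem_centralizer_singleton_iff]
    show _ ↔ g ∈ commutator P4 ∧ i g * i (σ4 0) = i (σ4 0) * i g
    rw [← map_mul, ← map_mul, i.injective.eq_iff]

end CfsgLib.Fi24Rec
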